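import Mathlib

/-!
Four-fold transitive groups with four point stabilisers of odd order: the local counting
identity `#Q σ τ ^ 2 = #P σ * #P τ * #P (σ * τ)`.
-/

set_option autoImplicit false

namespace Cfsg.Agent.FourTrans

open Equiv Finset

variable {α : Type*} [Fintype α] [DecidableEq α]

/-- `g` acts on the tuple `t` as `σ`. -/
def Pat (g : Perm α) (σ : Perm (Fin 4)) (t : Fin 4 ↪ α) : Prop := ∀ i, g (t i) = t (σ i)

/-- The data used throughout. -/
structure Data (G : Subgroup (Perm α)) (e : ℕ) : Prop where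
  trans : ∀ t t' : Fin 4 ↪ α, ∃ g ∈ G, ∀ i, g (t i) = t' i
  oddExp : Odd e
  expo : ∀ (t : Fin 4 ↪ α), ∀ g ∈ G, (∀ i, g (t i) = t i) → g ^ e = 1

theorem Pat.mul {g k : Perm α} {σ τ : Perm (Fin 4)} {t : Fin 4 ↪ α} (hg : Pat g σ t)
    (hk : Pat k τ t) : Pat (g * k) (σ * τ) t := fun i => by
  rw [Perm.mul_apply, hk, hg, Perm.mul_apply]

theorem Pat.inv {g : Perm α} {σ : Perm (Fin 4)} {t : Fin 4 ↪ α} (hg : Pat g σ t) :
    Pat g⁻¹ σ⁻¹ t := fun i => by
  rw [Perm.inv_eq_iff_eq, hg]; simp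

theorem Pat.one {t : Fin 4 ↪ α} : Pat (1 : Perm α) 1 t := fun _ => rfl

theorem Pat.pow {g : Perm α} {σ : Perm (Fin 4)} {t : Fin 4 ↪ α} (hg : Pat g σ t) :
    ∀ n : ℕ, Pat (g ^ n) (σ ^ n) t
  | 0 => by simpa using Pat.one
  | n + 1 => by rw [pow_succ, pow_succ]; exact (Pat.pow hg n).mul hg

theorem Pat.unique {g : Perm α} {σ τ : Perm (Fin 4)} {t : Fin 4 ↪ α} (hg : Pat g σ t)
    (hg' : Pat g τ t) : σ = τ := by
  ext1 i; exact t.injective ((hg i).symm.trans (hg' i))

theorem Pat.conj {g k : Perm α} {σ : Perm (Fin 4)} {t t' : Fin 4 ↪ α} (hg : Pat g σ t)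
    (hk : ∀ i, k (t i) = t' i) : Pat (k * g * k⁻¹) σ t' := fun i => by
  have : k⁻¹ (t' i) = t i := by rw [Perm.inv_eq_iff_eq, hk]
  rw [Perm.mul_apply, Perm.mul_apply, this, hg, hk]

/-- The square root of an element whose order divides the odd number `e`. -/
def root (e : ℕ) (s : Perm α) : Perm α := s ^ ((e + 1) / 2)

theorem root_mul_self {e : ℕ} (he : Odd e) {s : Perm α} (hs : s ^ e = 1) :
    root e s * root e s = s := by
  obtain ⟨k, rfl⟩ := he
  rw [root, ← pow_add, show (2 * k + 1 + 1) / 2 + (2 * k + 1 + 1) / 2 = (2 * k + 1) + 1 by omega,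
    pow_succ, hs, one_mul]

theorem root_unique {e : ℕ} (he : Odd e) {s y : Perm α} (hy : y ^ e = 1) (h : y * y = s) :
    root e s = y := by
  obtain ⟨k, rfl⟩ := he
  rw [root, ← h, ← pow_two, ← pow_mul,
    show 2 * ((2 * k + 1 + 1) / 2) = (2 * k + 1) + 1 by omega, pow_succ, hy, one_mul]

theorem root_conj (e : ℕ) (u s : Perm α) : u * root e s * u⁻¹ = root e (u * s * u⁻¹) := by
  rw [root, root, conj_pow]

theorem root_inv (e : ℕ) (s : Perm α) : root e s⁻¹ = (root e s)⁻¹ := by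
  rw [root, root, inv_pow]

theorem inv_of_mul_self {u : Perm α} (h : u * u = 1) : u⁻¹ = u :=
  inv_eq_of_mul_eq_one_right h

/-- An element of odd exponent which squares to one is trivial. -/
theorem eq_one_of_odd {e : ℕ} (he : Odd e) {s : Perm α} (hs : s ^ e = 1) (h2 : s * s = 1) :
    s = 1 := by
  obtain ⟨k, rfl⟩ := he
  rw [pow_succ, pow_mul, pow_two, h2, one_pow, one_mul] at hs
  exact hs

open Classical in
/-- The involutions of `G` acting on `t` as `σ`. -/
noncomputable def P (G : Subgroup (Perm α)) (σ : Perm (Fin 4)) (t : Fin 4 ↪ α) :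
    Finset (Perm α) :=
  Finset.univ.filter fun g => g ∈ G ∧ g * g = 1 ∧ Pat g σ t

open Classical in
/-- The commuting pairs of involutions acting on `t` as `(σ, τ)`. -/
noncomputable def Q (G : Subgroup (Perm α)) (σ τ : Perm (Fin 4)) (t : Fin 4 ↪ α) :
    Finset (Perm α × Perm α) :=
  Finset.univ.filter fun p => p.1 ∈ P G σ t ∧ p.2 ∈ P G τ t ∧ p.1 * p.2 = p.2 * p.1

variable {G : Subgroup (Perm α)} {e : ℕ}

theorem mem_P {σ : Perm (Fin 4)} {t : Fin 4 ↪ α} {g : Perm α} :
    g ∈ P G σ t ↔ g ∈ G ∧ g * g = 1 ∧ Pat g σ t := by simp [P]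

theorem mem_Q {σ τ : Perm (Fin 4)} {t : Fin 4 ↪ α} {p : Perm α × Perm α} :
    p ∈ Q G σ τ t ↔ p.1 ∈ P G σ t ∧ p.2 ∈ P G τ t ∧ p.1 * p.2 = p.2 * p.1 := by simp [Q]

theorem conj_mem_P {σ : Perm (Fin 4)} {t t' : Fin 4 ↪ α} {g k : Perm α} (hg : g ∈ P G σ t)
    (hk : k ∈ G) (hkt : ∀ i, k (t i) = t' i) : k * g * k⁻¹ ∈ P G σ t' := by
  rw [mem_P] at hg ⊢
  refine ⟨G.mul_mem (G.mul_mem hk hg.1) (G.inv_mem hk), ?_, hg.2.2.conj hkt⟩
  calc k * g * k⁻¹ * (k * g * k⁻¹) = k * (g * g) * k⁻¹ := by group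
    _ = 1 := by rw [hg.2.1]; group

theorem P_nonempty (D : Data G e) {σ : Perm (Fin 4)} (hσ : σ * σ = 1) (t : Fin 4 ↪ α) :
    (P G σ t).Nonempty := by
  obtain ⟨g, hg, hgt⟩ := D.trans t ((σ.toEmbedding).trans t)
  have hgp : Pat g σ t := fun i => hgt i
  refine ⟨g ^ e, mem_P.2 ⟨G.pow_mem hg e, ?_, ?_⟩⟩
  · rw [← pow_add, ← two_mul, pow_mul, pow_two]
    exact D.expo t _ (G.mul_mem hg hg) fun i => by
      have := (hgp.mul hgp) i
      rwa [hσ, Perm.one_apply] at this
  · obtain ⟨k, hk⟩ := D.oddExp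
    have := hgp.pow e
    rw [show σ ^ e = σ by rw [hk, pow_succ, pow_mul, pow_two, hσ, one_pow, one_mul]] at this
    exact this

theorem mul_fix {σ : Perm (Fin 4)} {t : Fin 4 ↪ α} {u v : Perm α} (hu : u ∈ P G σ t)
    (hv : v ∈ P G σ t) : ∀ i, (v * u) (t i) = t i := by
  intro i
  rw [mem_P] at hu hv
  have h1 : σ * σ = 1 := (hu.2.2.mul hu.2.2).unique (hu.2.1 ▸ Pat.one)
  have h := (hv.2.2.mul hu.2.2) i
  rwa [h1, Perm.one_apply] at h

/-- Two involutions with the same action on four points are conjugate by an element of the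
group fixing these points, which commutes with whatever commutes with both. -/
theorem exists_conj (D : Data G e) {σ : Perm (Fin 4)} {t : Fin 4 ↪ α} {u v : Perm α}
    (hu : u ∈ P G σ t) (hv : v ∈ P G σ t) :
    ∃ k ∈ G, (∀ i, k (t i) = t i) ∧ k * u * k⁻¹ = v ∧
      ∀ c : Perm α, c * u = u * c → c * v = v * c → c * k = k * c := by
  have hfix := mul_fix hu hv
  rw [mem_P] at hu hv
  have hs : (v * u) ^ e = 1 := D.expo t _ (G.mul_mem hv.1 hu.1) hfix
  set s := v * u with hsdef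
  refine ⟨root e s, G.pow_mem (G.mul_mem hv.1 hu.1) _, ?_, ?_, ?_⟩
  · intro i
    have h : Pat s 1 t := fun i => hfix i
    have := h.pow ((e + 1) / 2) i
    rwa [one_pow] at this
  · have h1 : u * root e s * u⁻¹ = (root e s)⁻¹ := by
      rw [root_conj, ← root_inv, hsdef, mul_inv_rev, inv_of_mul_self hu.2.1,
        inv_of_mul_self hv.2.1]
      congr 1
      calc u * (v * u) * u = u * v * (u * u) := by group
        _ = u * v := by rw [hu.2.1, mul_one]
    calc root e s * u * (root e s)⁻¹ = root e s * u * (u * root e s * u⁻¹) := by rw [h1]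
      _ = root e s * ((u * u) * root e s) * u⁻¹ := by group
      _ = (root e s * root e s) * u⁻¹ := by rw [hu.2.1, one_mul]
      _ = v := by rw [root_mul_self D.oddExp hs, hsdef]; group
  · intro c hcu hcv
    have : Commute c s := Commute.mul_right hcv hcu
    exact this.pow_right _

/-- For commuting `σ` and `τ` there are commuting involutions with these patterns. -/
theorem Q_nonempty (D : Data G e) {σ τ : Perm (Fin 4)} (hσ : σ * σ = 1) (hτ : τ * τ = 1)
    (hc : σ * τ = τ * σ) (t : Fin 4 ↪ α) : (Q G σ τ t).Nonempty := by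
  obtain ⟨u, hu⟩ := P_nonempty D hσ t
  obtain ⟨v, hv⟩ := P_nonempty D hτ t
  rw [mem_P] at hu hv
  have hw : v * u * v ∈ P G σ t := by
    refine mem_P.2 ⟨G.mul_mem (G.mul_mem hv.1 hu.1) hv.1, ?_, ?_⟩
    · calc v * u * v * (v * u * v) = v * u * (v * v) * u * v := by group
        _ = v * (u * u) * v := by rw [hv.2.1]; group
        _ = 1 := by rw [hu.2.1, mul_one, hv.2.1]
    · have := (hv.2.2.mul hu.2.2).mul hv.2.2
      rwa [← hc, mul_assoc σ τ τ, hτ, mul_one] at this
  have hfix := mul_fix (mem_P.2 hu) hw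
  set s := v * u * v * u with hsdef
  have hsG : s ∈ G := G.mul_mem (mem_P.1 hw).1 hu.1
  have hs : s ^ e = 1 := D.expo t _ hsG hfix
  have ku : u * root e s * u⁻¹ = (root e s)⁻¹ := by
    rw [root_conj, ← root_inv, hsdef, inv_of_mul_self hu.2.1]
    congr 1
    rw [mul_inv_rev, mul_inv_rev, mul_inv_rev, inv_of_mul_self hu.2.1, inv_of_mul_self hv.2.1]
    calc u * (v * u * v * u) * u = u * v * u * v * (u * u) := by group
      _ = u * (v * (u * v)) := by rw [hu.2.1]; group
  have kv : v * root e s * v⁻¹ = (root e s)⁻¹ := by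
    rw [root_conj, ← root_inv, hsdef, inv_of_mul_self hv.2.1]
    congr 1
    rw [mul_inv_rev, mul_inv_rev, mul_inv_rev, inv_of_mul_self hu.2.1, inv_of_mul_self hv.2.1]
    calc v * (v * u * v * u) * v = (v * v) * u * v * u * v := by group
      _ = u * (v * (u * v)) := by rw [hv.2.1]; group
  have hrr : root e s * root e s = s := root_mul_self D.oddExp hs
  set k := root e s with hk
  have hkfix : Pat k 1 t := by
    have h : Pat s 1 t := fun i => hfix i
    have := h.pow ((e + 1) / 2)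
    rwa [one_pow] at this
  refine ⟨(k * u, v), mem_Q.2 ⟨mem_P.2 ⟨G.mul_mem (G.pow_mem hsG _) hu.1, ?_, ?_⟩,
    mem_P.2 hv, ?_⟩⟩
  · calc k * u * (k * u) = k * (u * k * u⁻¹) * (u * u) := by group
      _ = 1 := by rw [ku, hu.2.1]; group
  · simpa using hkfix.mul hu.2.2
  · show k * u * v = v * (k * u)
    have h1 : v * k = k⁻¹ * v := by
      calc v * k = (v * k * v⁻¹) * v := by group
        _ = k⁻¹ * v := by rw [kv]
    have h2 : v * u * v = k * k * u := by
      rw [hrr, hsdef]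
      calc v * u * v = v * u * v * (u * u) := by rw [hu.2.1, mul_one]
        _ = v * u * v * u * u := by group
    calc k * u * v = k⁻¹ * (k * k * u) * v := by group
      _ = k⁻¹ * (v * u * v) * v := by rw [h2]
      _ = k⁻¹ * v * u * (v * v) := by group
      _ = v * k * u := by rw [hv.2.1, h1, mul_one]
      _ = v * (k * u) := mul_assoc _ _ _

open Classical in
/-- The involutions with pattern `σ` commuting with `v`. -/
noncomputable def PC (G : Subgroup (Perm α)) (σ : Perm (Fin 4)) (t : Fin 4 ↪ α) (v : Perm α) :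
    Finset (Perm α) :=
  (P G σ t).filter fun g => g * v = v * g

theorem mem_PC {σ : Perm (Fin 4)} {t : Fin 4 ↪ α} {v g : Perm α} :
    g ∈ PC G σ t v ↔ g ∈ P G σ t ∧ g * v = v * g := by simp [PC]

theorem card_PC_eq (D : Data G e) {σ τ : Perm (Fin 4)} {t : Fin 4 ↪ α} {v w : Perm α}
    (hv : v ∈ P G τ t) (hw : w ∈ P G τ t) : #(PC G σ t v) = #(PC G σ t w) := by
  obtain ⟨k, hk, hkt, hkv, -⟩ := exists_conj D hv hw
  have hkt' : ∀ i, k⁻¹ (t i) = t i := fun i => by rw [Perm.inv_eq_iff_eq, hkt]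
  refine Finset.card_nbij' (fun g => k * g * k⁻¹) (fun g => k⁻¹ * g * k⁻¹⁻¹) ?_ ?_ ?_ ?_
  · intro g hg
    rw [Finset.mem_coe, mem_PC] at hg ⊢
    refine ⟨conj_mem_P hg.1 hk hkt, ?_⟩
    rw [← hkv]
    calc k * g * k⁻¹ * (k * v * k⁻¹) = k * (g * v) * k⁻¹ := by group
      _ = k * (v * g) * k⁻¹ := by rw [hg.2]
      _ = k * v * k⁻¹ * (k * g * k⁻¹) := by group
  · intro g hg
    rw [Finset.mem_coe, mem_PC] at hg ⊢
    refine ⟨conj_mem_P hg.1 (G.inv_mem hk) hkt', ?_⟩
    have hg2 := hg.2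
    rw [← hkv] at hg2
    calc k⁻¹ * g * k⁻¹⁻¹ * v = k⁻¹ * (g * (k * v * k⁻¹)) * k := by group
      _ = k⁻¹ * ((k * v * k⁻¹) * g) * k := by rw [hg2]
      _ = v * (k⁻¹ * g * k⁻¹⁻¹) := by group
  · intro g _; group
  · intro g _; group

theorem card_Q (D : Data G e) {σ τ : Perm (Fin 4)} {t : Fin 4 ↪ α} {v : Perm α}
    (hv : v ∈ P G τ t) : #(Q G σ τ t) = #(P G τ t) * #(PC G σ t v) := by
  have : #(Q G σ τ t) = #((P G τ t).sigma fun w => PC G σ t w) := by
    refine Finset.card_nbij' (fun p => ⟨p.2, p.1⟩) (fun x => (x.2, x.1)) ?_ ?_ ?_ ?_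
    · intro p hp
      rw [Finset.mem_coe, mem_Q] at hp
      simp only [Finset.mem_coe, Finset.mem_sigma, mem_PC]
      exact ⟨hp.2.1, hp.1, hp.2.2⟩
    · intro x hx
      simp only [Finset.mem_coe, Finset.mem_sigma, mem_PC] at hx
      rw [Finset.mem_coe, mem_Q]
      exact ⟨hx.2.1, hx.1, hx.2.2⟩
    · intro p _; rfl
    · intro p _; rfl
  rw [this, Finset.card_sigma, Finset.sum_congr rfl fun w hw => card_PC_eq D hw hv]
  simp

/-- The four-group formula. -/
theorem card_P_eq (D : Data G e) {σ τ : Perm (Fin 4)} {t : Fin 4 ↪ α} {u v : Perm α}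
    (hu : u ∈ P G σ t) (hv : v ∈ P G τ t) (hc : u * v = v * u) :
    #(P G σ t) = #(PC G σ t v) * #(PC G σ t (u * v)) := by
  obtain ⟨huG, huu, hup⟩ := mem_P.1 hu
  obtain ⟨hvG, hvv, hvp⟩ := mem_P.1 hv
  have hui := inv_of_mul_self huu
  have hvi := inv_of_mul_self hvv
  have hσ : σ * σ = 1 := (hup.mul hup).unique (huu ▸ Pat.one)
  have hτ : τ * τ = 1 := (hvp.mul hvp).unique (hvv ▸ Pat.one)
  -- `g * u` fixes the four points and is inverted by `u`
  have key : ∀ g ∈ P G σ t, g * u ∈ G ∧ Pat (g * u) 1 t ∧ (g * u) ^ e = 1 ∧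
      u * (g * u) * u = (g * u)⁻¹ := by
    intro g hg
    have hf := mul_fix hu hg
    rw [mem_P] at hg
    refine ⟨G.mul_mem hg.1 huG, fun i => hf i, D.expo t _ (G.mul_mem hg.1 huG) hf, ?_⟩
    rw [mul_inv_rev, inv_of_mul_self hg.2.1, hui]
    calc u * (g * u) * u = u * g * (u * u) := by group
      _ = u * g := by rw [huu, mul_one]
  -- the map
  let F : Perm α × Perm α → Perm α := fun p => p.1 * u * p.2 * u * p.1
  let X : Perm α → Perm α := fun g => root e (v * (g * u) * v * (g * u)⁻¹) * (g * u)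
  let K : Perm α → Perm α := fun g => root e (X g)
  let I : Perm α → Perm α × Perm α := fun g =>
    (K g * u, (K g)⁻¹ * (g * u) * (K g)⁻¹ * u)
  rw [← Finset.card_product]
  symm
  refine Finset.card_nbij' F I ?_ ?_ ?_ ?_
  · rintro ⟨p, q⟩ hpq
    simp only [Finset.mem_coe, Finset.mem_product, mem_PC] at hpq ⊢
    obtain ⟨⟨hp, -⟩, hq, -⟩ := hpq
    rw [mem_P] at hp hq ⊢
    refine ⟨G.mul_mem (G.mul_mem (G.mul_mem (G.mul_mem hp.1 huG) hq.1) huG) hp.1, ?_, ?_⟩
    · calc p * u * q * u * p * (p * u * q * u * p)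
          = p * u * q * u * (p * p) * u * q * u * p := by group
        _ = p * u * q * (u * u) * q * u * p := by rw [hp.2.1]; group
        _ = p * u * (q * q) * u * p := by rw [huu]; group
        _ = p * (u * u) * p := by rw [hq.2.1]; group
        _ = 1 := by rw [huu, mul_one, hp.2.1]
    · have := (((hp.2.2.mul hup).mul hq.2.2).mul hup).mul hp.2.2
      simpa [F, mul_assoc, hσ] using this
  · intro g hg
    rw [Finset.mem_coe] at hg
    obtain ⟨hG1, hp1, he1, hinv⟩ := key g hg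
    obtain ⟨h, hh⟩ : ∃ z, z = g * u := ⟨_, rfl⟩
    rw [← hh] at hG1 hp1 he1 hinv
    -- `v h v` has the same properties
    have hv1 : Pat (v * h * v) 1 t := by simpa [hτ] using (hvp.mul hp1).mul hvp
    have hs1 : Pat (v * h * v * h⁻¹) 1 t := by simpa using hv1.mul hp1.inv
    have hsG : v * h * v * h⁻¹ ∈ G :=
      G.mul_mem (G.mul_mem (G.mul_mem hvG hG1) hvG) (G.inv_mem hG1)
    have hse : (v * h * v * h⁻¹) ^ e = 1 := D.expo t _ hsG fun i => hs1 i
    obtain ⟨r, hr⟩ : ∃ z, z = root e (v * h * v * h⁻¹) := ⟨_, rfl⟩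
    have hr1 : Pat r 1 t := by
      rw [hr]
      have := hs1.pow ((e + 1) / 2)
      rwa [one_pow] at this
    have hrG : r ∈ G := hr ▸ G.pow_mem hsG _
    have hrr : r * r = v * h * v * h⁻¹ := hr ▸ root_mul_self D.oddExp hse
    obtain ⟨x, hx⟩ : ∃ z, z = r * h := ⟨_, rfl⟩
    have hx1 : Pat x 1 t := by simpa [hx] using hr1.mul hp1
    have hxG : x ∈ G := hx ▸ G.mul_mem hrG hG1
    have hxe : x ^ e = 1 := D.expo t _ hxG fun i => hx1 i
    have hxh : x * h⁻¹ * x = v * h * v := by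
      calc x * h⁻¹ * x = (r * r) * h := by rw [hx]; group
        _ = v * h * v := by rw [hrr]; group
    -- `x` is the only solution
    have uniq : ∀ y : Perm α, y ∈ G → Pat y 1 t → y * h⁻¹ * y = v * h * v → y = x := by
      intro y hyG hy1 hy
      have hy2 : Pat (y * h⁻¹) 1 t := by simpa using hy1.mul hp1.inv
      have hye : (y * h⁻¹) ^ e = 1 := D.expo t _ (G.mul_mem hyG (G.inv_mem hG1)) fun i => hy2 i
      have : root e (v * h * v * h⁻¹) = y * h⁻¹ := by
        refine root_unique D.oddExp hye ?_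
        rw [← hy]; group
      rw [hx, hr, this]; group
    have hxv : v * x * v = x := by
      refine uniq _ (G.mul_mem (G.mul_mem hvG hxG) hvG)
        (by simpa [hτ] using (hvp.mul hx1).mul hvp) ?_
      have : v * x * v * h⁻¹ * (v * x * v) = v * (x * (v * h * v)⁻¹ * x) * v := by
        rw [mul_inv_rev, mul_inv_rev, hvi]; group
      rw [this]
      congr 2
      rw [← hxh]; group
    have hxu : u * x * u = x⁻¹ := by
      have h1 : (u * x * u)⁻¹ = x := by
        refine uniq _ (G.inv_mem (G.mul_mem (G.mul_mem huG hxG) huG))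
          (by simpa [hσ] using ((hup.mul hx1).mul hup).inv) ?_
        rw [← hinv, mul_inv_rev, mul_inv_rev, hui]
        have h2 : u * (x⁻¹ * u) * (u * h * u) * (u * (x⁻¹ * u))
            = u * (x⁻¹ * (u * u) * h * (u * u) * x⁻¹) * u := by group
        rw [h2, huu, mul_one, mul_one]
        have h3 : x⁻¹ * h * x⁻¹ = (v * h * v)⁻¹ := by rw [← hxh]; group
        rw [h3, mul_inv_rev, mul_inv_rev, hvi]
        calc u * (v * (h⁻¹ * v)) * u = (u * v) * h⁻¹ * (v * u) := by group
          _ = (v * u) * h⁻¹ * (u * v) := by rw [hc]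
          _ = v * (u * h⁻¹ * u) * v := by group
          _ = v * h * v := by
              rw [← hinv]
              congr 2
              calc u * (u * h * u) * u = (u * u) * h * (u * u) := by group
                _ = h := by rw [huu]; group
      calc u * x * u = ((u * x * u)⁻¹)⁻¹ := (inv_inv _).symm
        _ = x⁻¹ := by rw [h1]
    obtain ⟨k, hk⟩ : ∃ z, z = root e x := ⟨_, rfl⟩
    have hk1 : Pat k 1 t := by
      rw [hk]
      have := hx1.pow ((e + 1) / 2)
      rwa [one_pow] at this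
    have hkG : k ∈ G := hk ▸ G.pow_mem hxG _
    have hkk : k * k = x := hk ▸ root_mul_self D.oddExp hxe
    have hku : u * k * u = k⁻¹ := by
      conv_lhs => rw [show u * k * u = u * k * u⁻¹ by rw [hui]]
      rw [hk, root_conj, ← root_inv, hui, hxu]
    have hkv : v * k * v = k := by
      conv_lhs => rw [show v * k * v = v * k * v⁻¹ by rw [hvi]]
      rw [hk, root_conj, hvi, hxv]
    show I g ∈ ((PC G σ t v ×ˢ PC G σ t (u * v) : Finset (Perm α × Perm α)) : Set _)
    simp only [I, K, X, ← hh, ← hr, ← hx, ← hk, Finset.mem_coe, Finset.mem_product, mem_PC]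
    refine ⟨⟨mem_P.2 ⟨G.mul_mem hkG huG, ?_, by simpa using hk1.mul hup⟩, ?_⟩,
      ⟨mem_P.2 ⟨G.mul_mem (G.mul_mem (G.mul_mem (G.inv_mem hkG) hG1) (G.inv_mem hkG)) huG, ?_,
        by simpa using ((hk1.inv.mul hp1).mul hk1.inv).mul hup⟩, ?_⟩⟩
    · calc k * u * (k * u) = k * (u * k * u) := by group
        _ = 1 := by rw [hku]; group
    · calc k * u * v = k * (v * u) := by rw [mul_assoc, hc]
        _ = (v * k * v) * v * u := by rw [hkv]; group
        _ = v * k * (v * v) * u := by group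
        _ = v * (k * u) := by rw [hvv]; group
    · have h1 : u * (k⁻¹ * h * k⁻¹) * u = (k⁻¹ * h * k⁻¹)⁻¹ := by
        rw [← hku]
        calc u * ((u * k * u) * h * (u * k * u)) * u = (u * u) * k * (u * h * u) * k * (u * u) := by
              group
          _ = k * h⁻¹ * k := by rw [huu, hinv]; group
          _ = _ := by rw [hku]; group
      calc k⁻¹ * h * k⁻¹ * u * (k⁻¹ * h * k⁻¹ * u)
          = (k⁻¹ * h * k⁻¹) * (u * (k⁻¹ * h * k⁻¹) * u) := by group
        _ = 1 := by rw [h1]; group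
    · set z := k⁻¹ * h * k⁻¹ with hz
      have hvz : v * z * v = z⁻¹ := by
        have : v * k⁻¹ * v = k⁻¹ := by
          rw [show v * k⁻¹ * v = (v * k * v)⁻¹ by rw [mul_inv_rev, mul_inv_rev, hvi, mul_assoc],
            hkv]
        calc v * z * v = v * k⁻¹ * (v * v) * h * (v * v) * k⁻¹ * v := by
              rw [hvv, hz]; group
          _ = (v * k⁻¹ * v) * (v * h * v) * (v * k⁻¹ * v) := by group
          _ = k⁻¹ * (k * k * h⁻¹ * (k * k)) * k⁻¹ := by rw [this, hkk, hxh]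
          _ = z⁻¹ := by rw [hz]; group
      have huz : u * z * u = z⁻¹ := by
        rw [hz, ← hku]
        calc u * ((u * k * u) * h * (u * k * u)) * u
            = (u * u) * k * (u * h * u) * k * (u * u) := by group
          _ = k * h⁻¹ * k := by rw [huu, hinv]; group
          _ = _ := by rw [hku]; group
      calc z * u * (u * v) = z * (u * u) * v := by group
        _ = z * v := by rw [huu, mul_one]
        _ = (v * v) * z * v := by rw [hvv, one_mul]
        _ = v * z⁻¹ := by rw [← hvz]; group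
        _ = v * (u * z * u) := by rw [huz]
        _ = v * u * (z * u) := by group
        _ = u * v * (z * u) := by rw [hc]
  · rintro ⟨p, q⟩ hpq
    simp only [Finset.mem_coe, Finset.mem_product, mem_PC] at hpq
    obtain ⟨⟨hp, hpv⟩, hq, hqw⟩ := hpq
    obtain ⟨hkG, hk1, hke, hku⟩ := key p hp
    obtain ⟨hsG, hs1, hse, hsu⟩ := key q hq
    set k := p * u with hk
    set s := q * u with hs
    have hp2 : p = k * u := by rw [hk, mul_assoc, huu, mul_one]
    have hq2 : q = s * u := by rw [hs, mul_assoc, huu, mul_one]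
    have hkv : v * k * v = k := by
      rw [hk]
      calc v * (p * u) * v = (v * p) * (u * v) := by group
        _ = (p * v) * (v * u) := by rw [hpv, hc]
        _ = p * (v * v) * u := by group
        _ = p * u := by rw [hvv, mul_one]
    have hsv : v * s * v = s⁻¹ := by
      rw [hs, mul_inv_rev, hui, inv_of_mul_self (mem_P.1 hq).2.1]
      have h1 : q * (u * v) = u * v * q := hqw
      calc v * (q * u) * v = v * (q * (u * v)) := by group
        _ = v * (u * v * q) := by rw [h1]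
        _ = v * (v * u) * q := by rw [hc]; group
        _ = (v * v) * (u * q) := by group
        _ = u * q := by rw [hvv, one_mul]
    have hh : F (p, q) * u = k * s * k := by
      show p * u * q * u * p * u = _
      rw [hk, hs]; group
    have hy1 : Pat (k * s⁻¹ * k⁻¹) 1 t := by simpa using (hk1.mul hs1.inv).mul hk1.inv
    have hye : (k * s⁻¹ * k⁻¹) ^ e = 1 :=
      D.expo t _ (G.mul_mem (G.mul_mem hkG (G.inv_mem hsG)) (G.inv_mem hkG)) fun i => hy1 i
    have hr : root e (v * (k * s * k) * v * (k * s * k)⁻¹) = k * s⁻¹ * k⁻¹ := by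
      refine root_unique D.oddExp hye ?_
      calc k * s⁻¹ * k⁻¹ * (k * s⁻¹ * k⁻¹) = k * s⁻¹ * k * (k * s * k)⁻¹ := by group
        _ = (v * k * v) * (v * s * v) * (v * k * v) * (k * s * k)⁻¹ := by rw [hkv, hsv]
        _ = v * k * (v * v) * s * (v * v) * k * v * (k * s * k)⁻¹ := by group
        _ = _ := by rw [hvv]; group
    have hX : X (F (p, q)) = k * k := by
      simp only [X, hh, hr]; group
    have hK : K (F (p, q)) = k := by
      simp only [K, hX]
      exact root_unique D.oddExp hke rfl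
    show I (F (p, q)) = (p, q)
    simp only [I, hK, hh]
    rw [hp2, hq2]
    simp only [Prod.mk.injEq, true_and]
    group
  · intro g hg
    show F (I g) = g
    simp only [F, I]
    calc K g * u * u * ((K g)⁻¹ * (g * u) * (K g)⁻¹ * u) * u * (K g * u)
        = K g * (u * u) * (K g)⁻¹ * (g * u) * (K g)⁻¹ * (u * u) * K g * u := by group
      _ = g := by
          rw [huu, mul_one]
          calc _ = g * (u * u) := by group
            _ = g := by rw [huu, mul_one]

/-- Relabelling of the pattern. -/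
theorem P_relabel {σ : Perm (Fin 4)} (π : Perm (Fin 4)) (t : Fin 4 ↪ α) :
    P G σ (π.toEmbedding.trans t) = P G (π * σ * π⁻¹) t := by
  ext g
  simp only [mem_P, and_congr_right_iff]
  intro _ _
  constructor
  · intro h i
    simpa using h (π⁻¹ i)
  · intro h i
    simpa using h (π i)

theorem card_P_const (D : Data G e) (σ : Perm (Fin 4)) (t t' : Fin 4 ↪ α) :
    #(P G σ t) = #(P G σ t') := by
  obtain ⟨k, hk, hkt⟩ := D.trans t t'
  have hkt' : ∀ i, k⁻¹ (t' i) = t i := fun i => by rw [Perm.inv_eq_iff_eq, hkt]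
  refine Finset.card_nbij' (fun g => k * g * k⁻¹) (fun g => k⁻¹ * g * k⁻¹⁻¹)
    (fun g hg => conj_mem_P hg hk hkt) (fun g hg => conj_mem_P hg (G.inv_mem hk) hkt') ?_ ?_
  · intro g _; group
  · intro g _; group

theorem card_P_conj (D : Data G e) (σ π : Perm (Fin 4)) (t : Fin 4 ↪ α) :
    #(P G (π * σ * π⁻¹) t) = #(P G σ t) := by
  rw [← P_relabel, card_P_const D σ _ t]

theorem card_Q_const (D : Data G e) (σ τ : Perm (Fin 4)) (t t' : Fin 4 ↪ α) :
    #(Q G σ τ t) = #(Q G σ τ t') := by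
  obtain ⟨k, hk, hkt⟩ := D.trans t t'
  have hkt' : ∀ i, k⁻¹ (t' i) = t i := fun i => by rw [Perm.inv_eq_iff_eq, hkt]
  have hcomm : ∀ (c p q : Perm α), p * q = q * p →
      c * p * c⁻¹ * (c * q * c⁻¹) = c * q * c⁻¹ * (c * p * c⁻¹) := by
    intro c p q h
    calc _ = c * (p * q) * c⁻¹ := by group
      _ = c * (q * p) * c⁻¹ := by rw [h]
      _ = _ := by group
  refine Finset.card_nbij' (fun p => (k * p.1 * k⁻¹, k * p.2 * k⁻¹))
    (fun p => (k⁻¹ * p.1 * k⁻¹⁻¹, k⁻¹ * p.2 * k⁻¹⁻¹)) ?_ ?_ ?_ ?_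
  · intro p hp
    rw [Finset.mem_coe, mem_Q] at hp ⊢
    exact ⟨conj_mem_P hp.1 hk hkt, conj_mem_P hp.2.1 hk hkt, hcomm k _ _ hp.2.2⟩
  · intro p hp
    rw [Finset.mem_coe, mem_Q] at hp ⊢
    exact ⟨conj_mem_P hp.1 (G.inv_mem hk) hkt', conj_mem_P hp.2.1 (G.inv_mem hk) hkt',
      hcomm k⁻¹ _ _ hp.2.2⟩
  · intro p _; ext1 <;> group
  · intro p _; ext1 <;> group

theorem card_Q_sq (D : Data G e) {σ τ : Perm (Fin 4)} (hσ : σ * σ = 1) (hτ : τ * τ = 1)
    (hc : σ * τ = τ * σ) (t : Fin 4 ↪ α) :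
    #(Q G σ τ t) ^ 2 = #(P G σ t) * #(P G τ t) * #(P G (σ * τ) t) := by
  obtain ⟨⟨u, v⟩, huv⟩ := Q_nonempty D hσ hτ hc t
  rw [mem_Q] at huv
  obtain ⟨hu, hv, huv⟩ := huv
  simp only at hu hv huv
  have hw : u * v ∈ P G (σ * τ) t := by
    rw [mem_P] at hu hv ⊢
    refine ⟨G.mul_mem hu.1 hv.1, ?_, hu.2.2.mul hv.2.2⟩
    calc u * v * (u * v) = u * (v * u) * v := by group
      _ = (u * u) * (v * v) := by rw [← huv]; group
      _ = 1 := by rw [hu.2.1, hv.2.1, one_mul]
  have hflip : #(Q G σ (σ * τ) t) = #(Q G σ τ t) := by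
    have hmap : ∀ τ' : Perm (Fin 4), ∀ p ∈ Q G σ τ' t, (p.1, p.1 * p.2) ∈ Q G σ (σ * τ') t := by
      intro τ' p hp
      rw [mem_Q] at hp ⊢
      obtain ⟨h1, h2, h3⟩ := hp
      refine ⟨h1, ?_, by simp only; rw [mul_assoc, ← h3]⟩
      rw [mem_P] at h1 h2 ⊢
      refine ⟨G.mul_mem h1.1 h2.1, ?_, h1.2.2.mul h2.2.2⟩
      calc p.1 * p.2 * (p.1 * p.2) = p.1 * (p.2 * p.1) * p.2 := by group
        _ = (p.1 * p.1) * (p.2 * p.2) := by rw [← h3]; group
        _ = 1 := by rw [h1.2.1, h2.2.1, one_mul]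
    refine Finset.card_nbij' (fun p => (p.1, p.1 * p.2)) (fun p => (p.1, p.1 * p.2)) ?_ ?_ ?_ ?_
    · intro p hp
      have := hmap _ p hp
      rwa [← mul_assoc, hσ, one_mul] at this
    · intro p hp; exact hmap _ p hp
    · intro p hp
      rw [Finset.mem_coe, mem_Q, mem_P] at hp
      simp only [← mul_assoc, hp.1.2.1, one_mul]
    · intro p hp
      rw [Finset.mem_coe, mem_Q, mem_P] at hp
      simp only [← mul_assoc, hp.1.2.1, one_mul]
  rw [pow_two]
  nth_rewrite 2 [← hflip]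
  rw [card_Q D hv, card_Q D hw, card_P_eq D hu hv huv]
  ring

end Cfsg.Agent.FourTrans
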