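import Cfsg.Agent.Lib.FourTrans.Main

/-!
Four-fold transitive groups with four point stabilisers of odd order: small degrees and degree
eleven.
-/

set_option autoImplicit false

namespace Cfsg.Agent.FourTrans

open Equiv Finset

variable {α : Type*} [Fintype α] [DecidableEq α] {G : Subgroup (Perm α)} {e : ℕ}

/-- The three-cycle pattern on the first three points. -/
def σ3 : Perm (Fin 4) := swap 0 1 * swap 1 2

/-- A four-fold transitive group with a three-cycle contains the alternating group. -/
theorem alternating_le (D : Data G e) (hn : 4 ≤ Fintype.card α) {c : Perm α} (hc : c ∈ G)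
    (hc3 : c.IsThreeCycle) : alternatingGroup α ≤ G := by
  -- a three-cycle has a tuple on which it has the standard pattern
  have tuple : ∀ d : Perm α, d.IsThreeCycle →
      ∃ t : Fin 4 ↪ α, Pat d σ3 t ∧ d.support = {t 0, t 1, t 2} := by
    intro d hd
    have h3 := hd.card_support
    obtain ⟨a, ha⟩ := Finset.card_pos.1 (show 0 < #d.support by omega)
    rw [Perm.mem_support] at ha
    have hord : d ^ 3 = 1 := by rw [← hd.orderOf]; exact pow_orderOf_eq_one d
    have h1 : d (d (d a)) = a := by
      rw [← Perm.mul_apply, ← Perm.mul_apply,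
        show d * d * d = 1 by rw [← hord, pow_succ, pow_two], Perm.one_apply]
    have hne2 : d (d a) ≠ a := fun h => ha (by rw [h] at h1; exact h1)
    have hne3 : d (d a) ≠ d a := fun h => ha (d.injective h)
    have hsupp : d.support = {a, d a, d (d a)} := by
      symm
      apply Finset.eq_of_subset_of_card_le
      · intro x hx
        simp only [Finset.mem_insert, Finset.mem_singleton] at hx
        rw [Perm.mem_support]
        rcases hx with rfl | rfl | rfl
        exacts [ha, hne3, by rw [h1]; exact Ne.symm hne2]
      · rw [h3, Finset.card_eq_three.2 ⟨a, d a, d (d a), Ne.symm ha, Ne.symm hne2,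
          Ne.symm hne3, rfl⟩]
    obtain ⟨b, hb⟩ : (d.supportᶜ).Nonempty := by
      rw [← Finset.card_pos, Finset.card_compl]; omega
    rw [hsupp] at hb
    simp only [Finset.mem_compl, Finset.mem_insert, Finset.mem_singleton, not_or] at hb
    refine ⟨mk4 a (d a) (d (d a)) b (Ne.symm ha) (Ne.symm hne2) (Ne.symm hb.1)
      (Ne.symm hne3) (Ne.symm hb.2.1) (Ne.symm hb.2.2), pat_four rfl rfl h1 ?_, hsupp⟩
    show d b = b
    rw [← Perm.notMem_support, hsupp]
    simp [hb.1, hb.2.1, hb.2.2]
  rw [← Equiv.Perm.closure_three_cycles_eq_alternating, Subgroup.closure_le]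
  intro d hd
  obtain ⟨t, ht, hts⟩ := tuple c hc3
  obtain ⟨t', ht', hts'⟩ := tuple d hd
  obtain ⟨g, hg, hgt⟩ := D.trans t t'
  have hp := ht.conj hgt
  have : g * c * g⁻¹ = d := by
    ext x
    by_cases hx : x ∈ d.support
    · rw [hts'] at hx
      simp only [Finset.mem_insert, Finset.mem_singleton] at hx
      rcases hx with rfl | rfl | rfl <;> rw [hp, ht']
    · rw [Perm.notMem_support.1 hx]
      have hgi : g⁻¹ x ∉ c.support := by
        intro h
        rw [hts] at h
        apply hx
        rw [hts']
        simp only [Finset.mem_insert, Finset.mem_singleton, Perm.inv_eq_iff_eq, hgt] at h ⊢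
        exact h
      rw [Perm.mul_apply, Perm.mul_apply, Perm.notMem_support.1 hgi, ← Perm.mul_apply,
        mul_inv_cancel, Perm.one_apply]
  rw [← this]
  exact G.mul_mem (G.mul_mem hg hc) (G.inv_mem hg)

/-- A swap is not in the group in degree at least six. -/
theorem swap_notMem (D : Data G e) (hn : 6 ≤ Fintype.card α) {a b : α} (hab : a ≠ b) :
    swap a b ∉ G := by
  intro h
  have h1 := fix_le_three D (mem_invs.2 ⟨h, swap_mul_self a b,
    fun h' => hab (by simpa using congrArg (fun g : Perm α => g b) h')⟩)
  rw [Finset.card_compl, Perm.support_swap hab, Finset.card_pair hab] at h1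
  omega

/-- No three-cycle in degree at least eight. -/
theorem no_three_cycle (D : Data G e) (hn : 8 ≤ Fintype.card α) {c : Perm α} (hc : c ∈ G) :
    ¬ c.IsThreeCycle := by
  intro h3
  have hA := alternating_le D (by omega) hc h3
  obtain ⟨t⟩ : Nonempty (Fin 4 ↪ α) := by
    apply Function.Embedding.nonempty_of_card_le
    rw [Fintype.card_fin]; omega
  have hne1 : t 0 ≠ t 1 := fun h => by simpa using t.injective h
  have hne2 : t 2 ≠ t 3 := fun h => by simpa using t.injective h
  have hdis : Perm.Disjoint (swap (t 0) (t 1)) (swap (t 2) (t 3)) := by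
    rw [Perm.disjoint_iff_disjoint_support, Perm.support_swap hne1, Perm.support_swap hne2]
    simp
  have hmem : swap (t 0) (t 1) * swap (t 2) (t 3) ∈ G := by
    apply hA
    rw [Perm.mem_alternatingGroup, map_mul, Perm.sign_swap hne1, Perm.sign_swap hne2]
    decide
  have hsq : swap (t 0) (t 1) * swap (t 2) (t 3) * (swap (t 0) (t 1) * swap (t 2) (t 3)) = 1 := by
    rw [mul_assoc, ← mul_assoc (swap (t 2) (t 3)), ← hdis.commute.eq, mul_assoc,
      swap_mul_self, mul_one, swap_mul_self]
  have hcard : #(swap (t 0) (t 1) * swap (t 2) (t 3)).support = 4 := by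
    rw [hdis.card_support_mul, Perm.support_swap hne1, Perm.support_swap hne2,
      Finset.card_pair hne1, Finset.card_pair hne2]
  have h1 := fix_le_three D (mem_invs.2 ⟨hmem, hsq, fun h => by
    rw [h, Perm.support_one, Finset.card_empty] at hcard; omega⟩)
  rw [Finset.card_compl, hcard] at h1
  omega

/-- Degrees six and seven. -/
theorem eq_alternating (D : Data G e) (hn : Fintype.card α = 6 ∨ Fintype.card α = 7) :
    G = alternatingGroup α := by
  obtain ⟨t⟩ : Nonempty (Fin 4 ↪ α) := by
    apply Function.Embedding.nonempty_of_card_le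
    rw [Fintype.card_fin]; omega
  obtain ⟨M, hM2, hMn, hM⟩ := exists_moved D (by omega) t
  have hdbl : ∀ s : Fin 4 ↪ α, swap (s 0) (s 1) * swap (s 2) (s 3) ∈ G := by
    intro s
    obtain ⟨z, hz⟩ := P_nonempty D (σ := σz) (by decide) s
    have hzs := (pat_σz s).1 (mem_P.1 hz).2.2
    have hcard := hM z (P_subset_invs (by decide) hz)
    have hsub : (Finset.univ : Finset (Fin 4)).map s ⊆ z.support := by
      intro x hx
      simp only [Finset.mem_map, Finset.mem_univ, true_and] at hx
      obtain ⟨i, rfl⟩ := hx
      rw [Perm.mem_support, (mem_P.1 hz).2.2 i]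
      intro h
      exact absurd (s.injective h) ((by decide : ∀ i, σz i ≠ i) i)
    have heq : (Finset.univ : Finset (Fin 4)).map s = z.support := by
      apply Finset.eq_of_subset_of_card_le hsub
      have := Finset.card_le_card hsub
      rw [Finset.card_map, Finset.card_univ, Fintype.card_fin] at this ⊢
      omega
    have : z = swap (s 0) (s 1) * swap (s 2) (s 3) := by
      ext x
      by_cases hx : x ∈ z.support
      · rw [← heq] at hx
        simp only [Finset.mem_map, Finset.mem_univ, true_and] at hx
        obtain ⟨i, rfl⟩ := hx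
        fin_cases i <;> simp [hzs, Equiv.swap_apply_def]
      · rw [Perm.notMem_support.1 hx]
        rw [← heq] at hx
        simp only [Finset.mem_map, Finset.mem_univ, true_and, not_exists] at hx
        rw [Perm.mul_apply, swap_apply_of_ne_of_ne (Ne.symm (hx 2)) (Ne.symm (hx 3)),
          swap_apply_of_ne_of_ne (Ne.symm (hx 0)) (Ne.symm (hx 1))]
    exact this ▸ (mem_P.1 hz).1
  obtain ⟨a, ha⟩ : ((Finset.univ.map t)ᶜ).Nonempty := by
    rw [← Finset.card_pos, Finset.card_compl, Finset.card_map, Finset.card_univ, Fintype.card_fin]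
    omega
  simp only [Finset.mem_compl, Finset.mem_map, Finset.mem_univ, true_and, not_exists] at ha
  have n01 : t 0 ≠ t 1 := fun h => by simpa using t.injective h
  have n02 : t 0 ≠ t 2 := fun h => by simpa using t.injective h
  have n12 : t 1 ≠ t 2 := fun h => by simpa using t.injective h
  have n23 : t 2 ≠ t 3 := fun h => by simpa using t.injective h
  have n03 : t 0 ≠ t 3 := fun h => by simpa using t.injective h
  have n13 : t 1 ≠ t 3 := fun h => by simpa using t.injective h
  have h2 := hdbl (mk4 (t 0) (t 1) (t 2) a n01 n02 (ha 0) n12 (ha 1) (ha 2))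
  have h1 := hdbl t
  change swap (t 0) (t 1) * swap (t 2) a ∈ G at h2
  have hdis : Perm.Disjoint (swap (t 0) (t 1)) (swap (t 2) (t 3)) := by
    rw [Perm.disjoint_iff_disjoint_support, Perm.support_swap n01, Perm.support_swap n23]
    simp [n02, n03, n12, n13]
  have h3 : (swap (t 2) (t 3) * swap (t 2) a).IsThreeCycle :=
    Perm.isThreeCycle_swap_mul_swap_same n23 (ha 2) (ha 3)
  have hmem : swap (t 2) (t 3) * swap (t 2) a ∈ G := by
    have := G.mul_mem h1 h2
    rwa [show swap (t 0) (t 1) * swap (t 2) (t 3) * (swap (t 0) (t 1) * swap (t 2) a) =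
      swap (t 2) (t 3) * swap (t 2) a by
        rw [hdis.commute.eq, mul_assoc, ← mul_assoc (swap (t 0) (t 1)), swap_mul_self,
          one_mul]] at this
  have hA := alternating_le D (by omega) hmem h3
  apply le_antisymm _ hA
  intro g hg
  rw [Perm.mem_alternatingGroup]
  rcases Int.units_eq_one_or (Perm.sign g) with h | h
  · exact h
  exfalso
  apply swap_notMem D (by omega) n01
  have : g * (g⁻¹ * swap (t 0) (t 1)) ∈ G := by
    refine G.mul_mem hg (hA ?_)
    rw [Perm.mem_alternatingGroup, map_mul, map_inv, h, Perm.sign_swap n01]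
    decide
  rwa [mul_inv_cancel_left] at this

/-- In degree eleven the four point stabilisers are trivial. -/
theorem trivial_stabilizer (D : Data G e) {M : ℕ} (hn : Fintype.card α = 11) (hM8 : M = 8)
    (hM : ∀ g ∈ invs G, #g.support = M) (t : Fin 4 ↪ α) :
    ∀ s ∈ G, (∀ i, s (t i) = t i) → s = 1 := by
  have key : ∀ (t : Fin 4 ↪ α) (z s : Perm α), z ∈ P G σz t → s ∈ G → (∀ i, s (t i) = t i) →
      s * z = z * s → s = 1 := by
    intro t z s hz hs hst hc
    have hse : s ^ e = 1 := D.expo t s hs hst
    have hzi := P_subset_invs (by decide) hz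
    have hcard := hM z hzi
    obtain ⟨-, hzz, hzp⟩ := mem_P.1 hz
    have i := apply_apply_of_mul_self hzz
    set O := z.support \ Finset.univ.map t with hO
    have hsub : Finset.univ.map t ⊆ z.support := by
      intro x hx
      simp only [Finset.mem_map, Finset.mem_univ, true_and] at hx
      obtain ⟨j, rfl⟩ := hx
      rw [Perm.mem_support, hzp j]
      intro h
      exact absurd (t.injective h) ((by decide : ∀ i, σz i ≠ i) j)
    have hOc : #O = 4 := by
      rw [hO, Finset.card_sdiff_of_subset hsub, hcard, hM8, Finset.card_map, Finset.card_univ,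
        Fintype.card_fin]
    have hsO : ∀ x ∈ O, s x ∈ O := by
      intro x hx
      simp only [hO, Finset.mem_sdiff, Finset.mem_map, Finset.mem_univ, true_and,
        Perm.mem_support, not_exists] at hx ⊢
      refine ⟨fun h => hx.1 (s.injective ?_), fun j h => hx.2 j (s.injective ?_)⟩
      · rw [apply_comm hc, h]
      · rw [hst, h]
    have hzO : ∀ x ∈ O, z x ∈ O ∧ z x ≠ x := by
      intro x hx
      simp only [hO, Finset.mem_sdiff, Finset.mem_map, Finset.mem_univ, true_and,
        Perm.mem_support, not_exists] at hx ⊢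
      refine ⟨⟨fun h => hx.1 (z.injective h), fun j h => hx.2 (σz j) ?_⟩, hx.1⟩
      rw [← hzp j, h, i]
    -- the square maps each pair to itself
    have h4 : ∀ x ∈ O, s (s (s (s x))) = x := by
      intro x hx
      have hsq : s (s x) = x ∨ s (s x) = z x := by
        by_cases h1 : s x = x
        · left; rw [h1, h1]
        by_cases h2 : s x = z x
        · left; rw [h2, apply_comm hc, h2, i]
        have hy := hsO x hx
        have hset : ({x, z x, s x, z (s x)} : Finset α) = O := by
          apply Finset.eq_of_subset_of_card_le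
          · intro w hw
            simp only [Finset.mem_insert, Finset.mem_singleton] at hw
            rcases hw with rfl | rfl | rfl | rfl
            exacts [hx, (hzO x hx).1, hy, (hzO _ hy).1]
          · rw [hOc]
            have a1 : z (s x) ≠ x := fun h => h2 (by have := congrArg z h; rwa [i] at this)
            have a2 : z (s x) ≠ z x := fun h => h1 (z.injective h)
            have a3 : z (s x) ≠ s x := (hzO _ hy).2
            have a4 : z x ≠ x := (hzO x hx).2
            simp [Ne.symm a1, Ne.symm a2, Ne.symm a3, Ne.symm a4, Ne.symm h1, Ne.symm h2]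
        have hss := hsO _ hy
        rw [← hset] at hss
        simp only [Finset.mem_insert, Finset.mem_singleton] at hss
        rcases hss with h | h | h | h
        · exact Or.inl h
        · exact Or.inr h
        · exact absurd (s.injective h) h1
        · exfalso
          rw [← apply_comm hc] at h
          exact h2 (s.injective h)
      rcases hsq with h | h
      · rw [h, h]
      · rw [h, apply_comm hc, apply_comm hc, h, i]
    have hsupp : s.support ⊆ z.supportᶜ := by
      intro x hx
      rw [Finset.mem_compl]
      intro hxz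
      rw [Perm.mem_support] at hx
      apply hx
      by_cases hxt : x ∈ Finset.univ.map t
      · simp only [Finset.mem_map, Finset.mem_univ, true_and] at hxt
        obtain ⟨j, rfl⟩ := hxt
        exact hst j
      · have h := h4 x (Finset.mem_sdiff.2 ⟨hxz, hxt⟩)
        have hmem : s ^ 4 ∈ MulAction.stabilizer (Perm α) x := by
          rw [MulAction.mem_stabilizer_iff, Perm.smul_def]
          simp only [pow_succ, pow_zero, one_mul, Perm.mul_apply]
          exact h
        obtain ⟨k, hk⟩ := D.oddExp
        have hroot : s = (s ^ 4) ^ ((k + 1) * (k + 1)) := by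
          rw [← pow_mul, show 4 * ((k + 1) * (k + 1)) = e * (e + 2) + 1 by rw [hk]; ring, pow_succ,
            pow_mul, hse, one_pow, one_mul]
        have := pow_mem hmem ((k + 1) * (k + 1))
        rwa [← hroot, MulAction.mem_stabilizer_iff, Perm.smul_def] at this
    have h3 : #s.support ≤ 3 :=
      (Finset.card_le_card hsupp).trans (fix_le_three D hzi)
    by_contra hne
    have h2le := Perm.two_le_card_support_of_ne_one hne
    rcases (show #s.support = 2 ∨ #s.support = 3 by omega) with h | h
    · obtain ⟨a, b, hab, rfl⟩ := Perm.card_support_eq_two.1 h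
      exact hne (eq_one_of_odd D.oddExp hse (swap_mul_self a b))
    · exact no_three_cycle D (by omega) hs (card_support_eq_three_iff.1 h)
  -- the pattern `(12)(34)` is realised exactly once
  have hone : #(P G σz t) ≤ 1 := by
    have hle : ∀ (π : Perm (Fin 4)) (v : Perm α), v ∈ P G (π * σz * π⁻¹) t →
        #(PC G σz t v) ≤ 1 := by
      intro π v hv
      rw [← P_relabel] at hv
      rw [Finset.card_le_one]
      intro z₁ h₁ z₂ h₂
      rw [mem_PC] at h₁ h₂
      have hfix := mul_fix h₁.1 h₂.1
      have hc : (z₂ * z₁) * v = v * (z₂ * z₁) :=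
        (show Commute (z₂ * z₁) v from Commute.mul_left h₂.2 h₁.2)
      have := key (π.toEmbedding.trans t) v (z₂ * z₁) hv
        (G.mul_mem (mem_P.1 h₂.1).1 (mem_P.1 h₁.1).1) (fun j => hfix (π j)) hc
      exact (mul_eq_one_iff_eq_inv.1 this).trans
        (inv_of_mul_self (mem_P.1 h₁.1).2.1) |>.symm
    obtain ⟨⟨u, v⟩, huv⟩ := Q_nonempty D (σ := σz) (τ := σw) (by decide) (by decide) (by decide) t
    rw [mem_Q] at huv
    simp only at huv
    have hw : u * v ∈ P G (σz * σw) t := by
      obtain ⟨hu, hv, hc⟩ := huv
      rw [mem_P] at hu hv ⊢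
      refine ⟨G.mul_mem hu.1 hv.1, ?_, hu.2.2.mul hv.2.2⟩
      calc u * v * (u * v) = u * (v * u) * v := by group
        _ = (u * u) * (v * v) := by rw [← hc]; group
        _ = 1 := by rw [hu.2.1, hv.2.1, one_mul]
    rw [card_P_eq D huv.1 huv.2.1 huv.2.2]
    have h1 := hle (swap 1 2) v
      (by rw [show swap 1 2 * σz * (swap 1 2)⁻¹ = σw by decide]; exact huv.2.1)
    have h2 := hle (swap 1 3) (u * v)
      (by rw [show swap 1 3 * σz * (swap 1 3)⁻¹ = σz * σw by decide]; exact hw)
    calc _ ≤ 1 * 1 := Nat.mul_le_mul h1 h2
      _ = 1 := rfl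
  intro s hs hst
  obtain ⟨z, hz⟩ := P_nonempty D (σ := σz) (by decide) t
  have h := Finset.card_le_one.1 hone _ (conj_mem_P hz hs hst) _ hz
  refine key t z s hz hs hst ?_
  calc s * z = s * z * s⁻¹ * s := by group
    _ = z * s := by rw [h]

end Cfsg.Agent.FourTrans
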