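import Cfsg.Agent.Lib.FourTrans.Basic

/-!
Four-fold transitive groups with four point stabilisers of odd order: the double counting.
-/

set_option autoImplicit false

namespace Cfsg.Agent.FourTrans

open Equiv Finset

variable {α : Type*} [Fintype α] [DecidableEq α] {G : Subgroup (Perm α)} {e : ℕ}

/-- The pattern `(12)(34)`. -/
def σz : Perm (Fin 4) := swap 0 1 * swap 2 3
/-- The pattern `(12)`. -/
def σx : Perm (Fin 4) := swap 0 1
/-- The pattern `(34)`. -/
def σy : Perm (Fin 4) := swap 2 3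
/-- The pattern `(13)(24)`. -/
def σw : Perm (Fin 4) := swap 0 2 * swap 1 3

/-- A tuple of four distinct points. -/
def mk4 (a b c d : α) (hab : a ≠ b) (hac : a ≠ c) (had : a ≠ d) (hbc : b ≠ c) (hbd : b ≠ d)
    (hcd : c ≠ d) : Fin 4 ↪ α :=
  ⟨![a, b, c, d], by
    intro i j h
    fin_cases i <;> fin_cases j <;> simp_all [eq_comm]⟩

theorem mk4_apply (a b c d : α) (hab : a ≠ b) (hac : a ≠ c) (had : a ≠ d) (hbc : b ≠ c)
    (hbd : b ≠ d) (hcd : c ≠ d) :
    mk4 a b c d hab hac had hbc hbd hcd 0 = a ∧ mk4 a b c d hab hac had hbc hbd hcd 1 = b ∧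
    mk4 a b c d hab hac had hbc hbd hcd 2 = c ∧ mk4 a b c d hab hac had hbc hbd hcd 3 = d :=
  ⟨rfl, rfl, rfl, rfl⟩

theorem pat_four {g : Perm α} {σ : Perm (Fin 4)} {t : Fin 4 ↪ α} (h0 : g (t 0) = t (σ 0))
    (h1 : g (t 1) = t (σ 1)) (h2 : g (t 2) = t (σ 2)) (h3 : g (t 3) = t (σ 3)) :
    Pat g σ t := by
  intro i; fin_cases i
  exacts [h0, h1, h2, h3]

instance instDecidablePat (g : Perm α) (σ : Perm (Fin 4)) (t : Fin 4 ↪ α) :
    Decidable (Pat g σ t) :=
  decidable_of_iff (∀ i, g (t i) = t (σ i)) Iff.rfl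

theorem pat_σz {g : Perm α} (t : Fin 4 ↪ α) :
    Pat g σz t ↔ g (t 0) = t 1 ∧ g (t 1) = t 0 ∧ g (t 2) = t 3 ∧ g (t 3) = t 2 :=
  ⟨fun h => ⟨h 0, h 1, h 2, h 3⟩, fun h => pat_four h.1 h.2.1 h.2.2.1 h.2.2.2⟩

theorem pat_σx {g : Perm α} (t : Fin 4 ↪ α) :
    Pat g σx t ↔ g (t 0) = t 1 ∧ g (t 1) = t 0 ∧ g (t 2) = t 2 ∧ g (t 3) = t 3 :=
  ⟨fun h => ⟨h 0, h 1, h 2, h 3⟩, fun h => pat_four h.1 h.2.1 h.2.2.1 h.2.2.2⟩

theorem pat_σw {g : Perm α} (t : Fin 4 ↪ α) :
    Pat g σw t ↔ g (t 0) = t 2 ∧ g (t 1) = t 3 ∧ g (t 2) = t 0 ∧ g (t 3) = t 1 :=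
  ⟨fun h => ⟨h 0, h 1, h 2, h 3⟩, fun h => pat_four h.1 h.2.1 h.2.2.1 h.2.2.2⟩

theorem Pat.ne_one {g : Perm α} {σ : Perm (Fin 4)} {t : Fin 4 ↪ α} (hg : Pat g σ t)
    (hσ : σ ≠ 1) : g ≠ 1 := fun h => hσ (hg.unique (h ▸ Pat.one))

theorem apply_apply_of_mul_self {u : Perm α} (h : u * u = 1) (a : α) : u (u a) = a := by
  rw [← Perm.mul_apply, h, Perm.one_apply]

theorem apply_comm {u v : Perm α} (h : u * v = v * u) (a : α) : u (v a) = v (u a) := by
  rw [← Perm.mul_apply, h, Perm.mul_apply]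

open Classical in
/-- The involutions of `G`. -/
noncomputable def invs (G : Subgroup (Perm α)) : Finset (Perm α) :=
  Finset.univ.filter fun g => g ∈ G ∧ g * g = 1 ∧ g ≠ 1

theorem mem_invs {g : Perm α} : g ∈ invs G ↔ g ∈ G ∧ g * g = 1 ∧ g ≠ 1 := by simp [invs]

open Classical in
/-- The pairs of distinct commuting involutions. -/
noncomputable def pairs (G : Subgroup (Perm α)) : Finset (Perm α × Perm α) :=
  Finset.univ.filter fun p => p.1 ∈ invs G ∧ p.2 ∈ invs G ∧ p.1 * p.2 = p.2 * p.1 ∧ p.1 ≠ p.2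

theorem mem_pairs {p : Perm α × Perm α} : p ∈ pairs G ↔
    p.1 ∈ invs G ∧ p.2 ∈ invs G ∧ p.1 * p.2 = p.2 * p.1 ∧ p.1 ≠ p.2 := by simp [pairs]

theorem pairs_mul {p q : Perm α} (h : (p, q) ∈ pairs G) : (p, p * q) ∈ pairs G := by
  rw [mem_pairs, mem_invs, mem_invs] at h
  obtain ⟨⟨hp, hpp, hp1⟩, ⟨hq, hqq, hq1⟩, hc, hne⟩ := h
  simp only at hp hpp hp1 hq hqq hq1 hc hne
  rw [mem_pairs, mem_invs, mem_invs]
  refine ⟨⟨hp, hpp, hp1⟩, ⟨G.mul_mem hp hq, ?_, ?_⟩, ?_, ?_⟩
  · calc p * q * (p * q) = p * (q * p) * q := by group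
      _ = (p * p) * (q * q) := by rw [← hc]; group
      _ = 1 := by rw [hpp, hqq, one_mul]
  · intro h1
    apply hne
    calc p = p * (q * q) := by rw [hqq, mul_one]
      _ = q := by rw [← mul_assoc]; simp only at h1; rw [h1, one_mul]
  · simp only; rw [mul_assoc, ← hc]
  · intro h1
    exact hq1 (mul_left_cancel (a := p) (by simpa using h1.symm))

section Global

variable (D : Data G e)
include D

theorem fix_le_three {g : Perm α} (hg : g ∈ invs G) : #(g.supportᶜ) ≤ 3 := by
  rw [mem_invs] at hg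
  by_contra hlt
  obtain ⟨E⟩ : Nonempty (Fin 4 ↪ {a // a ∈ g.supportᶜ}) := by
    apply Function.Embedding.nonempty_of_card_le
    rw [Fintype.card_fin, Fintype.card_coe]; omega
  refine hg.2.2 (eq_one_of_odd D.oddExp (D.expo (E.trans (Function.Embedding.subtype _)) g hg.1
    fun i => ?_) hg.2.1)
  have := (E i).2
  rwa [Finset.mem_compl, Perm.notMem_support] at this

omit D in
theorem card_support_even {g : Perm α} (hg : g ∈ invs G) : 2 ∣ #g.support := by
  rw [mem_invs] at hg
  exact Equiv.Perm.two_dvd_card_support (by rw [pow_two]; exact hg.2.1)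

theorem exists_σz_tuple (hn : 6 ≤ Fintype.card α) {g : Perm α} (hg : g ∈ invs G) :
    ∃ t, g ∈ P G σz t := by
  have h3 := fix_le_three D hg
  have h2 := card_support_even hg
  rw [Finset.card_compl] at h3
  rw [mem_invs] at hg
  obtain ⟨a, ha⟩ := Finset.card_pos.1 (show 0 < #g.support by omega)
  obtain ⟨c, hc⟩ : (g.support \ {a, g a}).Nonempty := by
    rw [← Finset.card_pos]
    have := Finset.le_card_sdiff ({a, g a} : Finset α) g.support
    have : #({a, g a} : Finset α) ≤ 2 := Finset.card_le_two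
    omega
  simp only [Finset.mem_sdiff, Perm.mem_support, Finset.mem_insert, Finset.mem_singleton,
    not_or] at hc ha
  have i := apply_apply_of_mul_self hg.2.1
  refine ⟨mk4 a (g a) c (g c) (Ne.symm ha) (Ne.symm hc.2.1) ?_ (Ne.symm hc.2.2) ?_
    (Ne.symm hc.1), mem_P.2 ⟨hg.1, hg.2.1, ?_⟩⟩
  · intro h; exact hc.2.2 (by rw [h, i])
  · intro h; exact hc.2.1 (g.injective h).symm
  · rw [pat_σz]
    exact ⟨rfl, i a, rfl, i c⟩

theorem invs_conj (hn : 6 ≤ Fintype.card α) {u v : Perm α} (hu : u ∈ invs G) (hv : v ∈ invs G) :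
    ∃ k ∈ G, k * u * k⁻¹ = v := by
  obtain ⟨t, ht⟩ := exists_σz_tuple D hn hu
  obtain ⟨t', ht'⟩ := exists_σz_tuple D hn hv
  obtain ⟨g, hg, hgt⟩ := D.trans t t'
  obtain ⟨k, hk, -, hkv, -⟩ := exists_conj D (conj_mem_P ht hg hgt) ht'
  exact ⟨k * g, G.mul_mem hk hg, by rw [← hkv]; group⟩

omit D in
theorem P_subset_invs {σ : Perm (Fin 4)} {t : Fin 4 ↪ α} {g : Perm α} (hσ : σ ≠ 1)
    (hg : g ∈ P G σ t) : g ∈ invs G := by
  rw [mem_P] at hg
  exact mem_invs.2 ⟨hg.1, hg.2.1, hg.2.2.ne_one hσ⟩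

/-- The numerical constants: every involution moves `M` points and fixes two or three. -/
theorem exists_moved (hn : 6 ≤ Fintype.card α) (t : Fin 4 ↪ α) :
    ∃ M, 2 ∣ M ∧ (M + 2 = Fintype.card α ∨ M + 3 = Fintype.card α) ∧
      ∀ g ∈ invs G, #g.support = M := by
  obtain ⟨x, hx⟩ := P_nonempty D (σ := σx) (by decide) t
  have hxi := P_subset_invs (by decide) hx
  refine ⟨#x.support, card_support_even hxi, ?_, fun g hg => ?_⟩
  · have h3 := fix_le_three D hxi
    have h2 : ({t 2, t 3} : Finset α) ⊆ x.supportᶜ := by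
      have := (pat_σx t).1 (mem_P.1 hx).2.2
      intro a ha
      simp only [Finset.mem_insert, Finset.mem_singleton] at ha
      rw [Finset.mem_compl, Perm.notMem_support]
      rcases ha with rfl | rfl
      exacts [this.2.2.1, this.2.2.2]
    have h4 := Finset.card_le_card h2
    rw [Finset.card_pair (fun h => by simpa using t.injective h)] at h4
    rw [Finset.card_compl] at h3 h4
    have := x.support.card_le_univ
    omega
  · obtain ⟨k, -, hk⟩ := invs_conj D hn hxi hg
    rw [← hk, Perm.card_support_conj]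

theorem sum_P (σ : Perm (Fin 4)) (hσ : σ ≠ 1) (t₀ : Fin 4 ↪ α) :
    Fintype.card (Fin 4 ↪ α) * #(P G σ t₀) =
      ∑ g ∈ invs G, #((Finset.univ : Finset (Fin 4 ↪ α)).filter fun t => Pat g σ t) := by
  classical
  rw [← Finset.card_univ, ← smul_eq_mul, ← Finset.sum_const,
    Finset.sum_congr rfl fun t _ => card_P_const D σ t₀ t]
  have := Finset.sum_card_bipartiteAbove_eq_sum_card_bipartiteBelow
    (s := invs G) (t := (Finset.univ : Finset (Fin 4 ↪ α))) (fun g t => Pat g σ t)
  simp only [Finset.bipartiteAbove, Finset.bipartiteBelow] at this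
  convert this.symm using 3 with t
  · ext g
    simp only [mem_P, Finset.mem_filter, mem_invs]
    exact ⟨fun h => ⟨⟨h.1, h.2.1, h.2.2.ne_one hσ⟩, h.2.2⟩, fun h => ⟨h.1.1, h.1.2.1, h.2⟩⟩

theorem sum_Q (σ τ : Perm (Fin 4)) (hσ : σ ≠ 1) (hτ : τ ≠ 1) (hne : σ ≠ τ) (t₀ : Fin 4 ↪ α) :
    Fintype.card (Fin 4 ↪ α) * #(Q G σ τ t₀) =
      ∑ p ∈ pairs G,
        #((Finset.univ : Finset (Fin 4 ↪ α)).filter fun t => Pat p.1 σ t ∧ Pat p.2 τ t) := by
  classical
  rw [← Finset.card_univ, ← smul_eq_mul, ← Finset.sum_const,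
    Finset.sum_congr rfl fun t _ => card_Q_const D σ τ t₀ t]
  have := Finset.sum_card_bipartiteAbove_eq_sum_card_bipartiteBelow
    (s := pairs G) (t := (Finset.univ : Finset (Fin 4 ↪ α)))
    (fun p t => Pat p.1 σ t ∧ Pat p.2 τ t)
  simp only [Finset.bipartiteAbove, Finset.bipartiteBelow] at this
  convert this.symm using 3 with t
  · ext p
    simp only [mem_Q, mem_P, Finset.mem_filter, mem_pairs, mem_invs]
    constructor
    · rintro ⟨⟨h1, h1', hp⟩, ⟨h2, h2', hq⟩, hc⟩
      exact ⟨⟨⟨h1, h1', hp.ne_one hσ⟩, ⟨h2, h2', hq.ne_one hτ⟩, hc,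
        fun h => hne (hp.unique (h ▸ hq))⟩, hp, hq⟩
    · rintro ⟨⟨⟨h1, h1', -⟩, ⟨h2, h2', -⟩, hc, -⟩, hp, hq⟩
      exact ⟨⟨h1, h1', hp⟩, ⟨h2, h2', hq⟩, hc⟩

end Global

theorem card_σz_tuples {g : Perm α} (hg : g * g = 1) :
    #((Finset.univ : Finset (Fin 4 ↪ α)).filter fun t => Pat g σz t) =
      #g.support * (#g.support - 2) := by
  have i := apply_apply_of_mul_self hg
  have hs : ∀ a ∈ g.support, #(g.support \ {a, g a}) = #g.support - 2 := by
    intro a ha
    rw [Perm.mem_support] at ha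
    rw [Finset.card_sdiff_of_subset, Finset.card_pair (Ne.symm ha)]
    intro x hx
    simp only [Finset.mem_insert, Finset.mem_singleton] at hx
    rw [Perm.mem_support]
    rcases hx with rfl | rfl
    · exact ha
    · rw [i]; exact Ne.symm ha
  have : #g.support * (#g.support - 2) = #(g.support.sigma fun a => g.support \ {a, g a}) := by
    rw [Finset.card_sigma, Finset.sum_congr rfl hs]; simp
  rw [this]
  refine Finset.card_bij (fun t _ => ⟨t 0, t 2⟩) ?_ ?_ ?_
  · intro t ht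
    rw [Finset.mem_filter, pat_σz] at ht
    obtain ⟨-, h0, h1, h2, h3⟩ := ht
    simp only [Finset.mem_sigma, Finset.mem_sdiff, Perm.mem_support, Finset.mem_insert,
      Finset.mem_singleton, not_or, h0, h2]
    refine ⟨fun h => ?_, fun h => ?_, fun h => ?_, fun h => ?_⟩ <;> simpa using t.injective h
  · intro t ht t' ht' h
    rw [Finset.mem_filter, pat_σz] at ht ht'
    simp only [Sigma.mk.injEq, heq_eq_eq] at h
    ext i
    fin_cases i
    exacts [h.1, by show t 1 = t' 1; rw [← ht.2.1, ← ht'.2.1, h.1], h.2,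
      by show t 3 = t' 3; rw [← ht.2.2.2.1, ← ht'.2.2.2.1, h.2]]
  · rintro ⟨a, c⟩ h
    simp only [Finset.mem_sigma, Finset.mem_sdiff, Perm.mem_support, Finset.mem_insert,
      Finset.mem_singleton, not_or] at h
    obtain ⟨ha, hc, hca, hcga⟩ := h
    refine ⟨mk4 a (g a) c (g c) (Ne.symm ha) (Ne.symm hca) ?_ (Ne.symm hcga) ?_ (Ne.symm hc),
      ?_, rfl⟩
    · intro h; exact hcga (by rw [h, i])
    · intro h; exact hca (g.injective h).symm
    · rw [Finset.mem_filter, pat_σz]
      exact ⟨Finset.mem_univ _, rfl, i a, rfl, i c⟩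

theorem card_σx_tuples {g : Perm α} (hg : g * g = 1) :
    #((Finset.univ : Finset (Fin 4 ↪ α)).filter fun t => Pat g σx t) =
      #g.support * (#g.supportᶜ * #g.supportᶜ - #g.supportᶜ) := by
  have i := apply_apply_of_mul_self hg
  rw [← Finset.offDiag_card, ← Finset.card_product]
  refine Finset.card_bij (fun t _ => (t 0, t 2, t 3)) ?_ ?_ ?_
  · intro t ht
    rw [Finset.mem_filter, pat_σx] at ht
    obtain ⟨-, h0, h1, h2, h3⟩ := ht
    simp only [Finset.mem_product, Finset.mem_offDiag, Finset.mem_compl, Perm.mem_support, h0,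
      h2, h3, ne_eq, not_not, true_and]
    exact ⟨fun h => by simpa using t.injective h, fun h => by simpa using t.injective h⟩
  · intro t ht t' ht' h
    rw [Finset.mem_filter, pat_σx] at ht ht'
    simp only [Prod.mk.injEq] at h
    ext i
    fin_cases i
    exacts [h.1, by show t 1 = t' 1; rw [← ht.2.1, ← ht'.2.1, h.1], h.2.1, h.2.2]
  · rintro ⟨a, c, d⟩ h
    simp only [Finset.mem_product, Finset.mem_offDiag, Finset.mem_compl, Perm.mem_support,
      ne_eq, not_not] at h
    obtain ⟨ha, hc, hd, hcd⟩ := h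
    refine ⟨mk4 a (g a) c d (Ne.symm ha) ?_ ?_ ?_ ?_ hcd, ?_, rfl⟩
    · intro h; exact ha (h ▸ hc)
    · intro h; exact ha (h ▸ hd)
    · intro h
      have : a = c := g.injective (by rw [h, hc])
      exact ha (this ▸ hc)
    · intro h
      have : a = d := g.injective (by rw [h, hd])
      exact ha (this ▸ hd)
    · rw [Finset.mem_filter, pat_σx]
      exact ⟨Finset.mem_univ _, rfl, i a, hc, hd⟩

theorem pair_facts {p q : Perm α} (h : (p, q) ∈ pairs G) :
    p * p = 1 ∧ q * q = 1 ∧ p * q = q * p := by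
  rw [mem_pairs, mem_invs, mem_invs] at h
  exact ⟨h.1.2.1, h.2.1.2.1, h.2.2.1⟩

theorem card_σzσx_tuples {p q : Perm α} (h : (p, q) ∈ pairs G) :
    #((Finset.univ : Finset (Fin 4 ↪ α)).filter fun t => Pat p σz t ∧ Pat q σx t) =
      #(p.support \ (p * q).support) * #(p.support \ q.support) := by
  obtain ⟨hp, hq, hc⟩ := pair_facts h
  have i := apply_apply_of_mul_self hp
  rw [← Finset.card_product]
  refine Finset.card_bij (fun t _ => (t 0, t 2)) ?_ ?_ ?_
  · intro t ht
    rw [Finset.mem_filter, pat_σz, pat_σx] at ht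
    obtain ⟨-, ⟨h0, h1, h2, h3⟩, g0, g1, g2, g3⟩ := ht
    simp only [Finset.mem_product, Finset.mem_sdiff, Perm.mem_support, Perm.mul_apply, h0, g0, h1,
      h2, g2, ne_eq, not_true_eq_false, not_false_iff, and_true]
    exact ⟨fun h => by simpa using t.injective h, fun h => by simpa using t.injective h⟩
  · intro t ht t' ht' h
    rw [Finset.mem_filter, pat_σz] at ht ht'
    simp only [Prod.mk.injEq] at h
    ext i
    fin_cases i
    exacts [h.1, by show t 1 = t' 1; rw [← ht.2.1.1, ← ht'.2.1.1, h.1], h.2,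
      by show t 3 = t' 3; rw [← ht.2.1.2.2.1, ← ht'.2.1.2.2.1, h.2]]
  · rintro ⟨a, c⟩ h
    simp only [Finset.mem_product, Finset.mem_sdiff, Perm.mem_support, Perm.mul_apply,
      ne_eq, not_not] at h
    obtain ⟨⟨ha, hpq⟩, hcp, hcq⟩ := h
    have hqa : q a = p a := by
      have := congrArg p hpq
      rwa [i] at this
    have hqpa : q (p a) = a := by rw [← apply_comm hc, hqa, i]
    have hqpc : q (p c) = p c := by rw [← apply_comm hc, hcq]
    refine ⟨mk4 a (p a) c (p c) (Ne.symm ha) ?_ ?_ ?_ ?_ (Ne.symm hcp), ?_, rfl⟩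
    · intro h; subst h; rw [hcq] at hqa; exact ha hqa.symm
    · intro h
      rw [← h, hqa] at hqpc; exact ha hqpc
    · intro h
      rw [← h, hqpa] at hcq; exact ha hcq.symm
    · intro h
      rw [← h, hqpa] at hqpc; exact ha hqpc.symm
    · rw [Finset.mem_filter, pat_σz, pat_σx]
      exact ⟨Finset.mem_univ _, ⟨rfl, i a, rfl, i c⟩, hqa, hqpa, hcq, hqpc⟩

theorem card_σzσw_tuples {p q : Perm α} (h : (p, q) ∈ pairs G) :
    #((Finset.univ : Finset (Fin 4 ↪ α)).filter fun t => Pat p σz t ∧ Pat q σw t) =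
      #(p.support ∩ q.support ∩ (p * q).support) := by
  obtain ⟨hp, hq, hc⟩ := pair_facts h
  have i := apply_apply_of_mul_self hp
  have j := apply_apply_of_mul_self hq
  refine Finset.card_bij (fun t _ => t 0) ?_ ?_ ?_
  · intro t ht
    rw [Finset.mem_filter, pat_σz, pat_σw] at ht
    obtain ⟨-, ⟨h0, h1, h2, h3⟩, g0, g1, g2, g3⟩ := ht
    simp only [Finset.mem_inter, Perm.mem_support, Perm.mul_apply, h0, g0, h2]
    refine ⟨⟨fun h => ?_, fun h => ?_⟩, fun h => ?_⟩ <;> simpa using t.injective h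
  · intro t ht t' ht' h
    rw [Finset.mem_filter, pat_σz, pat_σw] at ht ht'
    have e1 : t 1 = t' 1 := by rw [← ht.2.1.1, ← ht'.2.1.1, h]
    ext i
    fin_cases i
    exacts [h, e1, by show t 2 = t' 2; rw [← ht.2.2.1, ← ht'.2.2.1, h],
      by show t 3 = t' 3; rw [← ht.2.2.2.1, ← ht'.2.2.2.1, e1]]
  · intro a h
    simp only [Finset.mem_inter, Perm.mem_support, Perm.mul_apply] at h
    obtain ⟨⟨ha, hb⟩, hab⟩ := h
    refine ⟨mk4 a (p a) (q a) (p (q a)) (Ne.symm ha) (Ne.symm hb) (Ne.symm hab) ?_ ?_ ?_, ?_, rfl⟩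
    · intro h
      exact hab (by rw [← h, i])
    · intro h; exact hb (p.injective h).symm
    · intro h
      apply ha
      calc p a = p (q (q a)) := by rw [j]
        _ = q (p (q a)) := apply_comm hc _
        _ = a := by rw [← h, j]
    · rw [Finset.mem_filter, pat_σz, pat_σw]
      exact ⟨Finset.mem_univ _, ⟨rfl, i a, rfl, i (q a)⟩, rfl, (apply_comm hc a).symm, j a,
        by show q (p (q a)) = p a; rw [← apply_comm hc, j]⟩

section Large

variable (D : Data G e) {M : ℕ}
include D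

theorem card_moved_sdiff (hM : ∀ g ∈ invs G, #g.support = M) {p q : Perm α}
    (h : (p, q) ∈ pairs G) {a : α} (ha : p a = a) (ha' : q a ≠ a) :
    #(p.support \ q.support) = 2 := by
  obtain ⟨hp, hq, hc⟩ := pair_facts h
  have h3 := fix_le_three D (mem_pairs.1 h).1
  have hD : p.supportᶜ \ q.supportᶜ = {a, q a} := by
    apply Finset.Subset.antisymm
    · intro c hc'
      simp only [Finset.mem_sdiff, Finset.mem_compl, Perm.mem_support, ne_eq, not_not] at hc'
      simp only [Finset.mem_insert, Finset.mem_singleton]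
      by_contra hcon
      push Not at hcon
      have hqa : p (q a) = q a := by rw [apply_comm hc, ha]
      have hF : ({a, q a, c} : Finset α) = p.supportᶜ := by
        apply Finset.eq_of_subset_of_card_le
        · intro x hx
          simp only [Finset.mem_insert, Finset.mem_singleton] at hx
          rw [Finset.mem_compl, Perm.notMem_support]
          rcases hx with rfl | rfl | rfl
          exacts [ha, hqa, hc'.1]
        · rw [Finset.card_eq_three.2 ⟨a, q a, c, Ne.symm ha', Ne.symm hcon.1, Ne.symm hcon.2, rfl⟩]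
          exact h3
      have hqc : q c ∈ ({a, q a, c} : Finset α) := by
        rw [hF, Finset.mem_compl, Perm.notMem_support, apply_comm hc, hc'.1]
      simp only [Finset.mem_insert, Finset.mem_singleton] at hqc
      rcases hqc with h1 | h1 | h1
      · exact hcon.2 (by rw [← h1, apply_apply_of_mul_self hq])
      · exact hcon.1 (q.injective h1)
      · exact hc'.2 h1
    · intro x hx
      simp only [Finset.mem_insert, Finset.mem_singleton] at hx
      simp only [Finset.mem_sdiff, Finset.mem_compl, Perm.mem_support, ne_eq, not_not]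
      rcases hx with rfl | rfl
      · exact ⟨ha, ha'⟩
      · refine ⟨by rw [apply_comm hc, ha], ?_⟩
        rw [apply_apply_of_mul_self hq]; exact Ne.symm ha'
  have e1 := Finset.card_inter_add_card_sdiff p.supportᶜ q.supportᶜ
  have e2 := Finset.card_inter_add_card_sdiff q.supportᶜ p.supportᶜ
  rw [hD, Finset.card_pair (Ne.symm ha')] at e1
  rw [Finset.inter_comm] at e2
  have e3 : q.supportᶜ \ p.supportᶜ = p.support \ q.support := by
    ext x; simp [Finset.mem_sdiff, Finset.mem_compl, and_comm]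
  rw [e3] at e2
  have e4 : #p.supportᶜ = #q.supportᶜ := by
    rw [Finset.card_compl, Finset.card_compl, hM _ (mem_pairs.1 h).1, hM _ (mem_pairs.1 h).2.1]
  omega

theorem pair_counts (hM : ∀ g ∈ invs G, #g.support = M) {p q : Perm α}
    (h : (p, q) ∈ pairs G) {a : α} (ha : p a = a) (ha' : q a ≠ a) :
    #(p.support \ q.support) = 2 ∧ #(p.support \ (p * q).support) = 2 ∧
      #(p.support ∩ q.support ∩ (p * q).support) + 4 = M := by
  obtain ⟨hp, hq, hc⟩ := pair_facts h
  have i := apply_apply_of_mul_self hp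
  have h1 := card_moved_sdiff D hM h ha ha'
  have h2 := card_moved_sdiff D hM (pairs_mul h) ha
    (by rw [Perm.mul_apply, apply_comm hc, ha]; exact ha')
  refine ⟨h1, h2, ?_⟩
  have hdis : Disjoint (p.support \ q.support) (p.support \ (p * q).support) := by
    rw [Finset.disjoint_left]
    intro x hx hx'
    simp only [Finset.mem_sdiff, Perm.mem_support, Perm.mul_apply, ne_eq, not_not] at hx hx'
    rw [hx.2] at hx'
    exact hx'.1 hx'.2
  have hset : p.support ∩ q.support ∩ (p * q).support =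
      p.support \ (p.support \ q.support ∪ p.support \ (p * q).support) := by
    ext x
    simp only [Finset.mem_inter, Finset.mem_sdiff, Finset.mem_union]
    tauto
  have hsub : p.support \ q.support ∪ p.support \ (p * q).support ⊆ p.support :=
    Finset.union_subset Finset.sdiff_subset Finset.sdiff_subset
  have h4 := Finset.card_le_card hsub
  rw [hset, Finset.card_sdiff_of_subset hsub, Finset.card_union_of_disjoint hdis, h1, h2,
    hM _ (mem_pairs.1 h).1]
  rw [Finset.card_union_of_disjoint hdis, h1, h2, hM _ (mem_pairs.1 h).1] at h4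
  omega

/-- In the large case every involution commuting with `p` moves a point fixed by `p`. -/
theorem moves_fixed (hn : 8 ≤ Fintype.card α) (hM : ∀ g ∈ invs G, #g.support = M)
    (hM' : M + 2 = Fintype.card α ∨ M + 3 = Fintype.card α) (t : Fin 4 ↪ α) :
    ∀ p q : Perm α, (p, q) ∈ pairs G → ∃ a, p a = a ∧ q a ≠ a := by
  classical
  obtain ⟨⟨p₀, q₀⟩, h₀⟩ := Q_nonempty D (σ := σz) (τ := σx) (by decide) (by decide) (by decide) t
  rw [mem_Q] at h₀
  obtain ⟨hp₀, hq₀, hc₀⟩ := h₀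
  simp only at hp₀ hq₀ hc₀
  have hz := (pat_σz t).1 (mem_P.1 hp₀).2.2
  have hx := (pat_σx t).1 (mem_P.1 hq₀).2.2
  have hmem : (p₀, q₀) ∈ pairs G := mem_pairs.2 ⟨P_subset_invs (by decide) hp₀,
    P_subset_invs (by decide) hq₀, hc₀,
    fun (h : p₀ = q₀) => (show σz ≠ σx by decide)
      ((mem_P.1 hp₀).2.2.unique (h ▸ (mem_P.1 hq₀).2.2))⟩
  -- if `q` fixes the fixed points of `p` then the supports agree
  have hsub : ∀ p q : Perm α, (p, q) ∈ pairs G → (∀ a, p a = a → q a = a) →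
      q.support = p.support := by
    intro p q h hf
    apply Finset.eq_of_subset_of_card_le
    · intro a ha
      rw [Perm.mem_support] at ha ⊢
      exact fun h => ha (hf a h)
    · rw [mem_pairs] at h
      rw [hM _ h.1, hM _ h.2.1]
  obtain ⟨a₀, ha₀, ha₀'⟩ : ∃ a, p₀ a = a ∧ q₀ a ≠ a := by
    by_contra hcon
    push Not at hcon
    have h1 : t 2 ∈ p₀.support := by
      rw [Perm.mem_support, hz.2.2.1]; intro h; simpa using t.injective h
    rw [← hsub p₀ q₀ hmem hcon, Perm.mem_support] at h1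
    exact h1 hx.2.2.1
  obtain ⟨t₀, ht₀⟩ : ∃ t₀, t₀ ∈ ((Finset.univ : Finset (Fin 4 ↪ α)).filter
      fun t => Pat p₀ σz t ∧ Pat q₀ σw t) := by
    have := (pair_counts D hM hmem ha₀ ha₀').2.2
    rw [← card_σzσw_tuples hmem] at this
    exact Finset.card_pos.1 (by omega)
  intro p q hpq
  by_contra hcon
  push Not at hcon
  obtain ⟨hpp, hqq, hpqc⟩ := pair_facts hpq
  have e1 := hsub p q hpq hcon
  have e2 := hsub p (p * q) (pairs_mul hpq) fun a ha => by
    rw [Perm.mul_apply, hcon a ha, ha]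
  obtain ⟨t₁, ht₁⟩ : ∃ t₁, t₁ ∈ ((Finset.univ : Finset (Fin 4 ↪ α)).filter
      fun t => Pat p σz t ∧ Pat q σw t) := by
    have hcard : #(p.support ∩ q.support ∩ (p * q).support) = M := by
      rw [e1, e2, Finset.inter_self, Finset.inter_self, hM _ (mem_pairs.1 hpq).1]
    rw [← card_σzσw_tuples hpq] at hcard
    exact Finset.card_pos.1 (by omega)
  rw [Finset.mem_filter] at ht₀ ht₁
  rw [mem_pairs, mem_invs, mem_invs] at hmem hpq
  simp only at hmem hpq
  obtain ⟨g, hg, hgt⟩ := D.trans t₀ t₁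
  have hp1 : g * p₀ * g⁻¹ ∈ P G σz t₁ :=
    conj_mem_P (mem_P.2 ⟨hmem.1.1, hmem.1.2.1, ht₀.2.1⟩) hg hgt
  have hq1 : g * q₀ * g⁻¹ ∈ P G σw t₁ :=
    conj_mem_P (mem_P.2 ⟨hmem.2.1.1, hmem.2.1.2.1, ht₀.2.2⟩) hg hgt
  obtain ⟨k, hk, hkt, hkp, -⟩ :=
    exists_conj D hp1 (mem_P.2 ⟨hpq.1.1, hpq.1.2.1, ht₁.2.1⟩)
  obtain ⟨l, -, -, hlq, hlc⟩ := exists_conj D (conj_mem_P hq1 hk hkt)
    (mem_P.2 ⟨hpq.2.1.1, hpq.2.1.2.1, ht₁.2.2⟩)
  have hlp : p * l = l * p := by
    refine hlc p ?_ hpqc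
    rw [← hkp]
    calc k * (g * p₀ * g⁻¹) * k⁻¹ * (k * (g * q₀ * g⁻¹) * k⁻¹)
        = k * g * (p₀ * q₀) * g⁻¹ * k⁻¹ := by group
      _ = k * g * (q₀ * p₀) * g⁻¹ * k⁻¹ := by rw [hc₀]
      _ = _ := by group
  have hP : (l * k * g) * p₀ = p * (l * k * g) := by
    calc (l * k * g) * p₀ = l * (k * (g * p₀ * g⁻¹) * k⁻¹) * (k * g) := by group
      _ = l * p * (k * g) := by rw [hkp]
      _ = p * l * (k * g) := by rw [hlp]
      _ = _ := by group
  have hQ : (l * k * g) * q₀ = q * (l * k * g) := by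
    rw [← hlq]; group
  apply ha₀'
  apply (l * k * g).injective
  have e3 : p ((l * k * g) a₀) = (l * k * g) a₀ := by
    rw [← Perm.mul_apply p, ← hP, Perm.mul_apply _ p₀, ha₀]
  rw [← Perm.mul_apply _ q₀, hQ, Perm.mul_apply q, hcon _ e3]

/-- A four-fold transitive group of this kind of degree at least eight has degree eleven. -/
theorem eleven_of_large (hn : 8 ≤ Fintype.card α) (hM : ∀ g ∈ invs G, #g.support = M)
    (hM' : M + 2 = Fintype.card α ∨ M + 3 = Fintype.card α) (t : Fin 4 ↪ α) :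
    Fintype.card α = 11 ∧ M = 8 := by
  classical
  have S1 := sum_P D σz (by decide) t
  have S2 := sum_P D σx (by decide) t
  have S3 := sum_Q D σz σx (by decide) (by decide) (by decide) t
  have S4 := sum_Q D σz σw (by decide) (by decide) (by decide) t
  have hmove := moves_fixed D hn hM hM' t
  rw [Finset.sum_congr rfl fun g hg => by
    rw [card_σz_tuples (mem_invs.1 hg).2.1, hM g hg]] at S1
  rw [Finset.sum_congr rfl fun g hg => by
    rw [card_σx_tuples (mem_invs.1 hg).2.1, Finset.card_compl, hM g hg]] at S2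
  rw [Finset.sum_congr rfl fun p hp => by
    obtain ⟨a, ha, ha'⟩ := hmove p.1 p.2 hp
    obtain ⟨h1, h2, -⟩ := pair_counts D hM hp ha ha'
    rw [card_σzσx_tuples hp, h1, h2]] at S3
  rw [Finset.sum_congr rfl fun p hp => by
    obtain ⟨a, ha, ha'⟩ := hmove p.1 p.2 hp
    obtain ⟨-, -, h3⟩ := pair_counts D hM hp ha ha'
    rw [card_σzσw_tuples hp, show #(p.1.support ∩ p.2.support ∩ (p.1 * p.2).support) = M - 4 by
      omega]] at S4
  simp only [Finset.sum_const, smul_eq_mul] at S1 S2 S3 S4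
  have hy : #(P G (σz * σx) t) = #(P G σx t) := by
    rw [show σz * σx = (swap 0 2 * swap 1 3) * σx * (swap 0 2 * swap 1 3)⁻¹ by decide]
    exact card_P_conj D _ _ _
  have hw : #(P G σw t) = #(P G σz t) := by
    rw [show σw = swap 1 2 * σz * (swap 1 2)⁻¹ by decide]
    exact card_P_conj D _ _ _
  have hzw : #(P G (σz * σw) t) = #(P G σz t) := by
    rw [show σz * σw = swap 1 3 * σz * (swap 1 3)⁻¹ by decide]
    exact card_P_conj D _ _ _
  have K1 := card_Q_sq D (σ := σz) (τ := σx) (by decide) (by decide) (by decide) t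
  have K2 := card_Q_sq D (σ := σz) (τ := σw) (by decide) (by decide) (by decide) t
  rw [hy] at K1
  rw [hw, hzw] at K2
  have hN : 0 < #(pairs G) := by
    obtain ⟨pq, h⟩ := Q_nonempty D (σ := σz) (τ := σx) (by decide) (by decide) (by decide) t
    rw [mem_Q] at h
    exact Finset.card_pos.2 ⟨pq, mem_pairs.2 ⟨P_subset_invs (by decide) h.1,
      P_subset_invs (by decide) h.2.1, h.2.2,
      fun e => (show σz ≠ σx by decide) ((mem_P.1 h.1).2.2.unique (e ▸ (mem_P.1 h.2.1).2.2))⟩⟩
  have hI : 0 < #(invs G) := by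
    obtain ⟨p, h⟩ := P_nonempty D (σ := σz) (by decide) t
    exact Finset.card_pos.2 ⟨p, P_subset_invs (by decide) h⟩
  generalize #(Q G σz σx t) = C1 at S3 K1
  generalize #(Q G σz σw t) = C2 at S4 K2
  generalize #(P G σz t) = a at S1 K1 K2
  generalize #(P G σx t) = b at S2 K1
  generalize Fintype.card (Fin 4 ↪ α) = T at S1 S2 S3 S4
  generalize #(pairs G) = N at S3 S4 hN
  generalize #(invs G) = I at S1 S2 hI
  have key : C1 * a = C2 * b := by
    apply Nat.pow_left_injective (two_ne_zero)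
    show (C1 * a) ^ 2 = (C2 * b) ^ 2
    rw [mul_pow, mul_pow, K1, K2]; ring
  have E : (N * (2 * 2)) * (I * (M * (M - 2))) =
      (N * (M - 4)) * (I * (M * ((Fintype.card α - M) * (Fintype.card α - M) -
        (Fintype.card α - M)))) := by
    rw [← S1, ← S2, ← S3, ← S4]
    calc T * C1 * (T * a) = T * T * (C1 * a) := by ring
      _ = T * T * (C2 * b) := by rw [key]
      _ = T * C2 * (T * b) := by ring
  have hpos : 0 < N * I * M := Nat.mul_pos (Nat.mul_pos hN hI) (by omega)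
  rcases hM' with h | h <;>
  · rw [show Fintype.card α - M = Fintype.card α - M from rfl] at E
    have e : N * I * M * (4 * (M - 2)) = N * I * M * ((M - 4) *
        ((Fintype.card α - M) * (Fintype.card α - M) - (Fintype.card α - M))) := by
      linarith [E]
    have e' := Nat.eq_of_mul_eq_mul_left hpos e
    first
      | (rw [show Fintype.card α - M = 2 by omega] at e'; omega)
      | (rw [show Fintype.card α - M = 3 by omega] at e'; omega)

end Large

end Cfsg.Agent.FourTrans
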